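import Groth.Prelude.Def_ModSite
import Groth.Agent.KFlat.Site
import Mathlib.Algebra.Category.ModuleCat.Sheaf.PushforwardContinuous
import Mathlib.CategoryTheory.Generator.Basic

/-!
`freeOn O U` corepresents sections over `U`; consequences.
-/

set_option backward.isDefEq.respectTransparency false
set_option linter.style.haveILetI false
set_option autoImplicit false
set_option linter.unusedSectionVars false

universe u

open CategoryTheory Category Limits Opposite

namespace Groth.Agent.ModSiteFree

variable {C : Type u} [SmallCategory C] {J : GrothendieckTopology C} (O : Sheaf J CommRingCat.{u})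

/-- sections over `U` as a functor to types -/
noncomputable abbrev sectFun (U : C) : ModSite.Mod O ⥤ Type u :=
  SheafOfModules.toSheaf (ModSite.ringSh O) ⋙ sheafToPresheaf J AddCommGrpCat.{u} ⋙
    (evaluation _ _).obj (op U) ⋙ forget AddCommGrpCat.{u}

variable {O}

/-- global sections over the slice site are values at the terminal object -/
noncomputable def overSections (U : C) (M : ModSite.Mod O) :
    ((ModSite.restr O U).obj M).sections ≃ M.val.obj (op U) where
  toFun s := s.val (op (Over.mk (𝟙 U)))
  invFun x := ⟨fun V => M.val.map V.unop.hom.op x, fun {V W} f => by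
    change M.val.map f.unop.left.op (M.val.map V.unop.hom.op x) = M.val.map W.unop.hom.op x
    rw [← PresheafOfModules.map_comp_apply, ← op_comp, Over.w]⟩
  left_inv s := by
    refine Subtype.ext (funext fun V => ?_)
    exact s.property (Over.homMk V.unop.hom : V.unop ⟶ Over.mk (𝟙 U)).op
  right_inv x := by
    change M.val.presheaf.map (𝟙 (op U)) x = x
    rw [CategoryTheory.Functor.map_id]
    rfl

variable (O) in
/-- `freeOn O U` corepresents sections over `U` -/
noncomputable def freeOnCorep (U : C) : (sectFun O U).CorepresentableBy (ModSite.freeOn O U) where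
  homEquiv {M} := ((ModSite.extZeroAdj O U).homEquiv _ M).trans
    ((((ModSite.restr O U).obj M).unitHomEquiv).trans (overSections U M))
  homEquiv_comp {M N} g f := by
    simp only [Equiv.trans_apply, Adjunction.homEquiv_naturality_right]
    rfl

variable (O) in
/-- the sheafified free presheaf on `U` corepresents sections over `U` -/
noncomputable def freeSheafifyCorep (U : C) :
    (sectFun O U).CorepresentableBy ((ModSite.sheafify O).obj
      ((PresheafOfModules.free (ModSite.ringSh O).obj).obj (yoneda.obj U))) where
  homEquiv {M} := ((PresheafOfModules.sheafificationAdjunction.{u} (R := ModSite.ringSh O)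
      (𝟙 (ModSite.ringSh O).obj)).homEquiv _ M).trans PresheafOfModules.freeYonedaEquiv
  homEquiv_comp {M N} g f := by
    simp only [Equiv.trans_apply, Adjunction.homEquiv_naturality_right]
    rfl

variable (O) in
noncomputable def freeOnIso (U : C) : ModSite.freeOn O U ≅
    (ModSite.sheafify O).obj ((PresheafOfModules.free (ModSite.ringSh O).obj).obj (yoneda.obj U)) :=
  (freeOnCorep O U).uniqueUpToIso (freeSheafifyCorep O U)

theorem isFlat_freeOn (U : C) : ModSite.IsFlat (ModSite.freeOn O U) := by
  obtain ⟨h1, h2⟩ := (KFlat.flatObj_iff O _).1 (KFlat.flatObj_sheafify_free O (yoneda.obj U))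
  exact ⟨preservesFiniteLimits_of_natIso ((ModSite.tensorBi O).flip.mapIso (freeOnIso O U)).symm,
    preservesFiniteColimits_of_natIso ((ModSite.tensorBi O).flip.mapIso (freeOnIso O U)).symm⟩

section Pull

variable {D : Type u} [SmallCategory D] {K : GrothendieckTopology D} {O_D : Sheaf K CommRingCat.{u}}

/-- inverse image of `freeOn X` -/
noncomputable def pullFreeOnIso (f : ModSite.RMor O O_D) (X : D) :
    f.pull.obj (ModSite.freeOn O_D X) ≅ ModSite.freeOn O (f.fn.obj X) :=
  let c : (sectFun O (f.fn.obj X)).CorepresentableBy (f.pull.obj (ModSite.freeOn O_D X)) :=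
    { homEquiv := fun {M} => (f.adj.homEquiv _ M).trans (freeOnCorep O_D X).homEquiv
      homEquiv_comp := fun {M N} g a => by
        simp only [Equiv.trans_apply, Adjunction.homEquiv_naturality_right,
          (freeOnCorep O_D X).homEquiv_comp]
        rfl }
  c.uniqueUpToIso (freeOnCorep O (f.fn.obj X))

end Pull

theorem isSeparating_freeOn (G : Set C)
    (hG : ∀ X : C, ∃ (ι : Type u) (Y : ι → C) (f : ∀ i, Y i ⟶ X), Sieve.ofArrows Y f ∈ J X ∧ ∀ i, Y i ∈ G) :
    (ObjectProperty.ofObj fun X : G => ModSite.freeOn O (X : C)).IsSeparating := by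
  intro M N f g h
  apply SheafOfModules.hom_ext
  refine PresheafOfModules.hom_ext fun X => ?_
  ext x
  obtain ⟨ι, Y, p, hcov, hY⟩ := hG X.unop
  let P : Presheaf.IsSheaf J N.val.presheaf := N.isSheaf
  have hsep := ((isSheaf_iff_isSheaf_of_type J _).mp
    (((sheafCompose J (forget AddCommGrpCat.{u})).obj ⟨_, P⟩).property) _ hcov).isSeparatedFor
  refine hsep.ext fun W q hq => ?_
  obtain ⟨i, a, rfl⟩ := (Sieve.mem_ofArrows_iff ..).mp hq
  have key := (freeOnCorep O (Y i)).homEquiv.symm (M.val.map (p i).op x)
  have := h (ModSite.freeOn O (Y i)) (ObjectProperty.ofObj.mk (X := fun X : G => ModSite.freeOn O (X : C)) ⟨Y i, hY i⟩)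
    ((freeOnCorep O (Y i)).homEquiv.symm (M.val.map (p i).op x))
  have h' := congrArg (freeOnCorep O (Y i)).homEquiv this
  rw [(freeOnCorep O (Y i)).homEquiv_comp, (freeOnCorep O (Y i)).homEquiv_comp,
    Equiv.apply_symm_apply] at h'
  have hn : ∀ φ : M ⟶ N, N.val.map (a ≫ p i).op (φ.val.app X x) =
      N.val.map a.op (φ.val.app (op (Y i)) (M.val.map (p i).op x)) := fun φ => by
    rw [op_comp, PresheafOfModules.map_comp_apply]
    exact congrArg _ (PresheafOfModules.naturality_apply φ.val (p i).op x).symm
  exact (hn f).trans ((congrArg _ h').trans (hn g).symm)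

end Groth.Agent.ModSiteFree
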