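import Groth.Agent.KFlat.Site
import Mathlib.CategoryTheory.Abelian.Exact

/-!
Short exact sequences with flat quotient; tensoring acyclic bounded below complexes of flat modules.
-/

set_option backward.isDefEq.respectTransparency false
set_option linter.style.haveILetI false
set_option autoImplicit false
set_option maxHeartbeats 1000000

universe u

open CategoryTheory Category Limits Opposite

namespace Groth.Agent.ModSiteFree

/-- a right exact functor keeps `X ⟶ Y ⟶ Z` exact if the image of `Y` maps by a mono after applying it -/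
lemma exact_map_of_mono {A B : Type*} [Category A] [Abelian A] [Category B] [Abelian B] (T : A ⥤ B)
    [T.PreservesZeroMorphisms] (hT : PreservesFiniteColimits T) {X Y Z : A} (f : X ⟶ Y) (g : Y ⟶ Z)
    (w : f ≫ g = 0) (i : cokernel f ⟶ Z) (hi : cokernel.π f ≫ i = g) (hm : Mono (T.map i)) :
    (ShortComplex.mk (T.map f) (T.map g) (by rw [← T.map_comp, w, T.map_zero])).Exact := by
  let S : ShortComplex A := ShortComplex.mk f (cokernel.π f) (cokernel.condition _)
  have hS : (S.map T).Exact :=
    ShortComplex.exact_of_g_is_cokernel _ (CokernelCofork.mapIsColimit _ (cokernelIsCokernel f) T)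
  let φ : S.map T ⟶ ShortComplex.mk (T.map f) (T.map g) (by rw [← T.map_comp, w, T.map_zero]) :=
    { τ₁ := 𝟙 _, τ₂ := 𝟙 _, τ₃ := T.map i
      comm₁₂ := by simp [S]
      comm₂₃ := by
        rw [id_comp]
        exact (congrArg T.map hi).symm.trans (T.map_comp _ _) }
  haveI : Epi φ.τ₁ := inferInstanceAs (Epi (𝟙 _))
  haveI : IsIso φ.τ₂ := inferInstanceAs (IsIso (𝟙 _))
  haveI : Mono φ.τ₃ := hm
  exact (ShortComplex.exact_iff_of_epi_of_isIso_of_mono φ).mp hS

variable {C : Type u} [SmallCategory C] {J : GrothendieckTopology C} {O : Sheaf J CommRingCat.{u}}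

set_option maxHeartbeats 1000000 in
/-- tensoring keeps short exact sequences with flat quotient exact -/
lemma shortExact_map_of_isFlat {S : ShortComplex (ModSite.Mod O)} (hS : S.ShortExact)
    (h : ModSite.IsFlat S.X₃) (F : ModSite.Mod O)
    [((ModSite.tensorBi O).flip.obj F).PreservesZeroMorphisms] :
    (S.map ((ModSite.tensorBi O).flip.obj F)).ShortExact :=
  KFlat.shortExact_flip_of_flat₃ (B := ModSite.tensorBi O) (KFlat.braid O) (KFlat.preservesFiniteColimits_left O)
    (KFlat.exists_flat_cover O) hS ((KFlat.flatObj_iff O _).2 h) F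

lemma isFlat_of_isZero {Z : ModSite.Mod O} (hZ : IsZero Z) : ModSite.IsFlat Z :=
  (KFlat.flatObj_iff O _).1 fun S _ =>
    ShortComplex.exact_of_isZero_X₂ _ (IsZero.of_iso
      (Functor.map_isZero ((ModSite.tensorBi O).obj S.X₂) hZ) (Iso.refl _))

theorem acyclic_tensor (M : ChainComplex (ModSite.Mod O) ℤ) (F : ModSite.Mod O)
    [((ModSite.tensorBi O).flip.obj F).PreservesZeroMorphisms]
    (hb : ∃ i₀ : ℤ, ∀ i, i < i₀ → IsZero (M.X i)) (hM : ∀ i, ModSite.IsFlat (M.X i)) (hac : M.Acyclic) :
    ((((ModSite.tensorBi O).flip.obj F).mapHomologicalComplex (ComplexShape.down ℤ)).obj M).Acyclic := by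
  obtain ⟨i₀, hi₀⟩ := hb
  let T := (ModSite.tensorBi O).flip.obj F
  -- `Z i` is the image of `d : M (i+1) ⟶ M i`, i.e. the cokernel of the previous differential
  have he : ∀ i, (ShortComplex.mk (M.d (i + 1) i) (M.d i (i - 1)) (by simp)).Exact := fun i =>
    (M.exactAt_iff' (i + 1) i (i - 1) (by simp) (by simp)).mp (hac i)
  let Z : ℤ → ModSite.Mod O := fun i => cokernel (M.d (i + 1) i)
  let ι : ∀ i, Z (i + 1) ⟶ M.X i := fun i => cokernel.desc _ (M.d (i + 1) i) (by simp)
  have hι : ∀ i, Mono (ι i) := fun i => by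
    have h := (ShortComplex.exact_iff_of_iso (?e : ShortComplex.mk (M.d (i + 1 + 1) (i + 1))
      (M.d (i + 1) (i + 1 - 1)) (by simp) ≅ ShortComplex.mk (M.d (i + 1 + 1) (i + 1)) (M.d (i + 1) i)
        (by simp))).mp (he (i + 1))
    · exact h.mono_cokernelDesc
    case e => exact ShortComplex.isoMk (Iso.refl _) (Iso.refl _) (M.XIsoOfEq (by simp)) (by simp) (by simp)
  let Sq : ∀ i, ShortComplex (ModSite.Mod O) := fun i =>
    ShortComplex.mk (ι i) (cokernel.π (M.d (i + 1) i)) (by
      rw [← cancel_epi (cokernel.π (M.d (i + 1 + 1) (i + 1)))]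
      simp [ι])
  have hSq : ∀ i, (Sq i).ShortExact := fun i =>
    { exact := by
        refine ShortComplex.exact_of_g_is_cokernel _ ?_
        refine CokernelCofork.IsColimit.ofπ' (cokernel.π (M.d (i + 1) i)) _ fun {W} k hk => ?_
        have hk' : M.d (i + 1) i ≫ k = 0 := by
          have : cokernel.π (M.d (i + 1 + 1) (i + 1)) ≫ ι i = M.d (i + 1) i := cokernel.π_desc _ _ _
          rw [← this, assoc]
          exact (congrArg _ hk).trans comp_zero
        exact ⟨cokernel.desc _ k hk', cokernel.π_desc _ _ _⟩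
      mono_f := hι i
      epi_g := inferInstanceAs (Epi (cokernel.π _)) }
  have hflat : ∀ n : ℕ, ModSite.IsFlat (Z (i₀ - 1 + n)) := by
    intro n
    induction n with
    | zero =>
      refine isFlat_of_isZero ?_
      rw [IsZero.iff_id_eq_zero, ← cancel_epi (cokernel.π _)]
      exact (hi₀ _ (by simp)).eq_of_src _ _
    | succ n ih =>
      rw [show i₀ - 1 + ((n + 1 : ℕ) : ℤ) = i₀ - 1 + n + 1 by push_cast; ring]
      exact (KFlat.isFlat_two_out_of_three_site O (hSq _) ih).2 (hM _)
  have hflat' : ∀ i, ModSite.IsFlat (Z i) := fun i => by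
    by_cases hi : i < i₀
    · refine isFlat_of_isZero ?_
      rw [IsZero.iff_id_eq_zero, ← cancel_epi (cokernel.π _)]
      exact (hi₀ _ hi).eq_of_src _ _
    · obtain ⟨n, hn⟩ := Int.le.dest (show i₀ - 1 ≤ i by omega)
      exact hn ▸ hflat n
  intro i
  obtain ⟨j, rfl⟩ : ∃ j, i = j + 1 := ⟨i - 1, by omega⟩
  rw [HomologicalComplex.exactAt_iff' _ (j + 1 + 1) (j + 1) j (by simp) (by simp)]
  have h1 := shortExact_map_of_isFlat (hSq j) (hflat' j) F
  have hmono : Mono (T.map (ι j)) := h1.mono_f
  exact exact_map_of_mono T (KFlat.exact_flip_of_rightExact (KFlat.braid O)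
    (KFlat.preservesFiniteColimits_left O) F) (M.d (j + 1 + 1) (j + 1)) (M.d (j + 1) j) (by simp)
    (ι j) (cokernel.π_desc _ _ _) hmono

end Groth.Agent.ModSiteFree
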