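import Groth.Agent.KFlat.Site

/-!
Presheaves of modules: tensoring short exact sequences with flat quotient.
-/

set_option backward.isDefEq.respectTransparency false
set_option linter.style.haveILetI false
set_option autoImplicit false
set_option maxHeartbeats 1000000

universe u

open CategoryTheory Category Limits Opposite MonoidalCategory PresheafOfModules

namespace Groth.Agent.ModSiteFree

variable {C : Type u} [SmallCategory C] (O : Cᵒᵖ ⥤ CommRingCat.{u})



theorem shortExact_map_tensorRight
    (S : ShortComplex (PresheafOfModules.{u} (O ⋙ forget₂ CommRingCat.{u} RingCat.{u}))) (hS : S.ShortExact)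
    (hF : PreservesFiniteLimits (MonoidalCategory.tensorRight S.X₃) ∧
      PreservesFiniteColimits (MonoidalCategory.tensorRight S.X₃))
    (G : PresheafOfModules.{u} (O ⋙ forget₂ CommRingCat.{u} RingCat.{u}))
    [(MonoidalCategory.tensorRight G).PreservesZeroMorphisms] :
    (S.map (MonoidalCategory.tensorRight G)).ShortExact := by
  let A := PresheafOfModules.{u} (O ⋙ forget₂ CommRingCat.{u} RingCat.{u})
  let B : A ⥤ A ⥤ A := MonoidalCategory.curriedTensor A
  have hcoll : ∀ X : A, PreservesColimitsOfSize.{u, u} (MonoidalCategory.tensorLeft X) := fun X => inferInstance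
  have hcl : ∀ X : A, PreservesFiniteColimits (B.obj X) := fun X =>
    haveI := hcoll X
    haveI : PreservesColimitsOfSize.{0, 0} (MonoidalCategory.tensorLeft X) :=
      preservesSmallestColimits_of_preservesColimits _
    (inferInstance : PreservesFiniteColimits (MonoidalCategory.tensorLeft X))
  haveI : B.Additive :=
    { map_add := fun {X Y f g} => by
        ext N : 2
        ext1 U
        apply ModuleCat.MonoidalCategory.tensor_ext
        intro a b
        exact TensorProduct.add_tmul _ _ _ }
  haveI : ∀ X, (B.obj X).Additive := fun X =>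
    { map_add := fun {Y Z f g} => by
        ext1 U
        apply ModuleCat.MonoidalCategory.tensor_ext
        intro a b
        exact TensorProduct.tmul_add _ _ _ }
  let e : B ≅ B.flip := (BraidedCategory.curriedBraidingNatIso A)
  have hflat : ∀ {F : A}, PreservesFiniteLimits (B.flip.obj F) → KFlat.FlatObj B F := fun {F} h =>
    haveI := h
    haveI : PreservesFiniteColimits (B.flip.obj F) := KFlat.exact_flip_of_rightExact e hcl F
    KFlat.flatObj_of_preserves
  let R₀ := O ⋙ forget₂ CommRingCat.{u} RingCat.{u}
  have hcov : ∀ M : A, ∃ (F : A) (p : F ⟶ M), Epi p ∧ KFlat.FlatObj B F := fun M =>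
    ⟨(PresheafOfModules.free R₀).obj (M.presheaf ⋙ forget AddCommGrpCat.{u}),
      PresheafOfModules.freeHomEquiv.symm (𝟙 _), by
        rw [PresheafOfModules.epi_iff_surjective]
        intro U x
        exact ⟨ModuleCat.freeMk x, ModuleCat.freeDesc_apply _ x⟩,
      hflat (KFlat.preservesFiniteLimits_tensorRight_of_flat _ fun X =>
        inferInstanceAs (Module.Flat (O.obj X) ((M.obj X : Type u) →₀ (O.obj X : Type u))))⟩
  exact KFlat.shortExact_flip_of_flat₃ e hcl hcov hS (hflat hF.1) G

end Groth.Agent.ModSiteFree
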